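import Cfsg.Agent.RV.Defs
import Cfsg.Agent.H93.L2Dick

/-! Three essential lines: the prime is 5 or 13, by Dickson's list. -/

set_option autoImplicit false

namespace Cfsg.Agent.RV

open Subgroup Matrix.ProjGenLinGroup
open scoped MatrixGroups

variable {p : ℕ} [Fact p.Prime] {W : Subgroup (G2 p)} {E : Set (Vc p)}

local notation "π" => (Matrix.ProjGenLinGroup.mk : G2 p →* PGL(2, ZMod p))

namespace C5

/-- scalar matrices -/
def Sc (g : G2 p) : Prop := g 0 1 = 0 ∧ g 1 0 = 0 ∧ g 0 0 = g 1 1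

variable {t s : G2 p} {u v w : Vc p} {y : ZMod p}

theorem sc_of_mk (h : π t = 1) : Sc t := by
  obtain ⟨c, rfl⟩ := mk_eq_mk_iff.1 (h.symm : π 1 = π t)
  simp [Sc]

theorem dt_pow (n : ℕ) : dt (t ^ n) = dt t ^ n := by
  induction n with
  | zero => simp [dt_one]
  | succ n ih => rw [pow_succ, dt_mul, ih, pow_succ]

theorem mv_pow (e : y • mv t u = u) (n : ℕ) : y ^ n • mv (t ^ n) u = u := by
  induction n with
  | zero => simp [mv_one]
  | succ n ih => rw [pow_succ, pow_succ, mv_mul, mul_smul, ← mv_smul, e, ih]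

theorem pow_of_sc (hu : u ≠ 0) (e : y • mv t u = u) (d : dt t = y) {n : ℕ} (h : Sc (t ^ n)) : y ^ (3 * n) = 1 := by
  have e1 := mv_pow e n
  have e2 := dt_pow (t := t) n
  rw [d, dt, h.1, ← h.2.2] at e2
  have e3 : y ^ n * (t ^ n) 0 0 = 1 := by
    by_contra k
    refine hu (vc_ext (mul_left_cancel₀ (sub_ne_zero.2 k) ?_) (mul_left_cancel₀ (sub_ne_zero.2 k) ?_))
    · have := congrFun e1 0
      rw [Pi.smul_apply, mv_zero', h.1, smul_eq_mul] at this
      simp only [Pi.zero_apply]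
      linear_combination this
    · have := congrFun e1 1
      rw [Pi.smul_apply, mv_one', h.2.1, ← h.2.2, smul_eq_mul] at this
      simp only [Pi.zero_apply]
      linear_combination this
  rw [pow_mul']
  linear_combination (y ^ n * (t ^ n) 0 0 + 1) * e3 - (y ^ n) ^ 2 * e2

theorem sc_of_three (h1 : om u v ≠ 0) (h2 : om u w ≠ 0) (h3 : om v w ≠ 0) (e1 : om (mv t u) u = 0)
    (e2 : om (mv t v) v = 0) (e3 : om (mv t w) w = 0) : Sc t := by
  have n := mul_ne_zero (mul_ne_zero h1 h2) h3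
  simp only [om, mv_zero', mv_one'] at *
  refine ⟨mul_right_cancel₀ n ?_, mul_right_cancel₀ n ?_, mul_right_cancel₀ n ?_⟩
  · linear_combination (v 0 * w 0 * (v 0 * w 1 - v 1 * w 0)) * e1 - (u 0 * w 0 * (u 0 * w 1 - u 1 * w 0)) * e2 +
      (u 0 * v 0 * (u 0 * v 1 - u 1 * v 0)) * e3
  · linear_combination -(v 1 * w 1 * (v 0 * w 1 - v 1 * w 0)) * e1 + (u 1 * w 1 * (u 0 * w 1 - u 1 * w 0)) * e2 -
      (u 1 * v 1 * (u 0 * v 1 - u 1 * v 0)) * e3
  · linear_combination -((v 0 * w 1 + v 1 * w 0) * (v 0 * w 1 - v 1 * w 0)) * e1 +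
      ((u 0 * w 1 + u 1 * w 0) * (u 0 * w 1 - u 1 * w 0)) * e2 - ((u 0 * v 1 + u 1 * v 0) * (u 0 * v 1 - u 1 * v 0)) * e3

theorem eig (hy : y ≠ 0) (e : y • mv t u = u) (c : t * s = s * t) (n : ¬ Sc t) : om (mv s u) u = 0 := by
  by_contra k
  have e' : y • mv t (mv s u) = mv s u := by rw [← mv_mul, c, mv_mul, ← mv_smul, e]
  generalize mv s u = x at k e'
  have a0 := congrFun e 0
  have a1 := congrFun e 1
  have b0 := congrFun e' 0
  have b1 := congrFun e' 1
  simp only [Pi.smul_apply, mv_zero', mv_one', smul_eq_mul] at a0 a1 b0 b1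
  have m := mul_ne_zero hy k
  rw [om] at m
  refine n ⟨mul_right_cancel₀ m ?_, mul_right_cancel₀ m ?_, mul_right_cancel₀ m ?_⟩
  · linear_combination x 0 * a0 - u 0 * b0
  · linear_combination u 1 * b1 - x 1 * a1
  · linear_combination u 1 * b0 - x 1 * a0 - x 0 * a1 + u 0 * b1

theorem sq_comm (h : π t * π s = π s * π t) : t ^ 2 * s = s * t ^ 2 := by
  obtain ⟨c, e⟩ := mk_eq_mk_iff.1 ((map_mul _ _ _).trans (h.trans (map_mul _ _ _).symm))
  have d := congrArg dt e
  have z : ∀ g : G2 p, Matrix.GeneralLinearGroup.scalar _ c * g = g * Matrix.GeneralLinearGroup.scalar _ c :=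
    fun g => (mem_center_iff.1 (mk_eq_one.1 (mk_scalar c)) g).symm
  have c2 : c * c = 1 := Units.ext (by
    have := left_ne_zero_of_mul_eq_one (dt_mul_inv (t * s))
    rw [dt_mul, dt_mul s, mul_comm (dt s), ← dt_mul t s, mul_eq_left₀ this] at d
    simpa [dt] using d)
  rw [pow_two, ← mul_assoc, ← e, mul_assoc _ _ t, z, ← mul_assoc, mul_assoc t s t, ← e, mul_assoc, mul_assoc t _,
    mul_assoc (t * s), ← map_mul, c2, map_one, mul_one]

end C5

open C5 H93.L2 H28 in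
theorem Good.big_prime (h : Good W E) (h3 : Three E) (hp : 5 ≤ p) (h7 : p ≠ 7) :
    (p = 5 ∨ p = 13) ∧ Nat.card W ≤ 24 * (p - 1) := by
  have pp : p.Prime := Fact.out
  obtain ⟨y, hy⟩ := IsCyclic.exists_ofOrder_eq_natCard (α := (ZMod p)ˣ)
  rw [Nat.card_units, Nat.card_zmod, ← orderOf_units] at hy
  have T : ∀ u ∈ E, ∃ t ∈ W, (y : ZMod p) • mv t u = u ∧ ∀ n, Sc (t ^ n) → p - 1 ∣ 3 * n := fun u hu =>
    let ⟨t, ht, e, d⟩ := h.tor u hu y y.ne_zero
    ⟨t, ht, e, fun n k => hy ▸ orderOf_dvd_of_pow_eq_one (pow_of_sc (h.ne u hu) e d k)⟩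
  have ar : ∀ n, 0 < n → n ≤ 5 → p - 1 ∣ 3 * n → n = 4 ∧ (p = 5 ∨ p = 13) := fun n n0 n5 k => by
    have := Nat.le_of_dvd (by omega) k
    have : p ≤ 16 := by omega
    interval_cases p <;> interval_cases n <;> simp_all (config := { decide := true })
  obtain ⟨u, hu, v, hv, w, hw, h1, h2, h3⟩ := h3
  obtain ⟨a, ha, a1, a2⟩ := T u hu
  obtain ⟨b, hb, b1, b2⟩ := T v hv
  obtain ⟨c, hc, c1, c2⟩ := T w hw
  have n2 : ¬ p - 1 ∣ 3 * 2 := fun k => by simpa using (ar 2 (by omega) (by omega) k).1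
  have key : π b * π a = π a * π b → π c * π a ≠ π a * π c := fun e1 e2 => by
    have y2 := pow_ne_zero 2 y.ne_zero
    have := a2 1 (by
      rw [pow_one]
      exact sc_of_three h1 h2 h3 (eig y2 (mv_pow a1 2) ((Commute.refl a).pow_left 2) fun k => n2 (a2 2 k))
        (eig y2 (mv_pow b1 2) (sq_comm e1) fun k => n2 (b2 2 k))
        (eig y2 (mv_pow c1 2) (sq_comm e2) fun k => n2 (c2 2 k)))
    simpa using (ar 1 (by omega) (by omega) this).1
  have hd : ¬ p ∣ Nat.card (W.map π) := fun k => h.pp (k.trans (W.card_map_dvd _))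
  have m : ∀ {g}, g ∈ W → π g ∈ W.map π := fun hg => ⟨_, hg, rfl⟩
  have pw : ∀ {X : Type} [Group X] (e : W.map π ≃* X) (n : ℕ), e ⟨_, m ha⟩ ^ n = 1 → p - 1 ∣ 3 * n :=
    fun e n k => a2 n (sc_of_mk (by
      rw [← map_pow, map_eq_one_iff _ e.injective] at k
      exact (map_pow _ _ _).trans (congrArg Subtype.val k)))
  rcases dickson (ρ := MonoidHom.id PGL(2, ZMod p)) Function.injective_id p (W.map π) (fun k => hd (by
      have := card_dvd_card_cj_subPSL (⊤ : Subfield (ZMod p)) 1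
      rw [subPSL_top, cj_pslIn] at this
      rw [Subgroup.map_id] at k
      exact ((char_dvd_card_subfield p ⊤).trans this).trans (card_dvd_of_le k))) with
    ⟨x, k⟩ | ⟨d, -, hd', k⟩ | ⟨-, -, ⟨e⟩⟩ | ⟨-, -, ⟨e⟩⟩ | ⟨-, -, ⟨e⟩⟩ | ⟨-, K, -, hK, -⟩
  · exact absurd (comm_of_le_stab Function.injective_id p k hd (m hc) (m ha))
      (key (comm_of_le_stab Function.injective_id p k hd (m hb) (m ha)))
  · obtain ⟨n, ⟨e⟩, -⟩ := torN_structure (MonoidHom.id _) Function.injective_id (fun x _ => ⟨x, rfl⟩) p hd'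
    have dc : ∀ x x' : DihedralGroup n, x * x ≠ 1 → x' * x' ≠ 1 → x * x' = x' * x := by
      rintro (i | i) (j | j) <;> simp [add_comm]
    have cm : ∀ {g g'} (hg : g ∈ W) (hg' : g' ∈ W), (∀ n, Sc (g ^ n) → p - 1 ∣ 3 * n) →
        (∀ n, Sc (g' ^ n) → p - 1 ∣ 3 * n) → π g * π g' = π g' * π g := fun {g g'} hg hg' k1 k2 => by
      have := dc (e ⟨_, k (m hg)⟩) (e ⟨_, k (m hg')⟩)
      simp only [← map_mul, Ne, map_eq_one_iff e e.injective, e.injective.eq_iff, Subtype.ext_iff, coe_mul,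
        coe_one] at this
      simpa only [map_mul] using this (fun r => n2 (k1 2 (sc_of_mk (pow_two g ▸ r))))
        fun r => n2 (k2 2 (sc_of_mk (pow_two g' ▸ r)))
    exact absurd (cm hc ha c2 a2) (key (cm hb ha b2 a2))
  · rcases a4_pow (e ⟨_, m ha⟩) with k | k <;> simpa using (ar _ (by omega) (by omega) (pw e _ k)).1
  · refine ⟨(s4_pow (e ⟨_, m ha⟩)).elim (fun k => (ar _ (by omega) (by omega) (pw e _ k)).2)
      fun k => (ar _ (by omega) (by omega) (pw e _ k)).2, ?_⟩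
    rw [← (MonoidHom.comp π W.subtype).ker.card_mul_index, index_ker, MonoidHom.range_comp, range_subtype,
      Nat.card_congr e.toEquiv, card_sym4, mul_comm]
    refine Nat.mul_le_mul_left _ ?_
    refine le_of_le_of_eq ?_ ((Nat.card_units (ZMod p)).trans (by rw [Nat.card_zmod]))
    refine le_trans (Nat.card_le_card_of_injective (fun x => (⟨x.1.1, mk_eq_one.1 x.2⟩ : center (G2 p)))
      fun x x' r => Subtype.ext (Subtype.ext (congrArg Subtype.val r :))) ?_
    rw [Matrix.GeneralLinearGroup.center_eq_range_scalar]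
    exact Nat.card_le_card_of_surjective _ (MonoidHom.rangeRestrict_surjective _)
  · rcases alt5_pow (e ⟨_, m ha⟩) with k | k | k <;> simpa using (ar _ (by omega) (by omega) (pw e _ k)).1
  · have := sq_le_of_ne_top hK
    have := Nat.le_of_dvd Nat.card_pos (char_dvd_card_subfield p K)
    rw [Nat.card_zmod] at *
    nlinarith

end Cfsg.Agent.RV
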