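import Cfsg.Agent.H26.CoInv

set_option autoImplicit false

namespace Cfsg.Agent.RV

open Subgroup

open Cfsg.Agent.H14 Cfsg.Agent.H15

namespace CoA

open H97 H26.CoInv Finset

def mB : ℕ := nat_lit 0x82079e7a082082282079e8227a27a482282282089e7a082081e8248a281e7a27a081e82289e82081e7a28a089e8207a082071e8a07a08a282081e89e7a089e8208a082081e8a08a48a282082279e8a08a28207a082081e7a48a08208a27a082082282089e82289e7a071e82282089e8a08208228208a28228a28a08227228207a28a08208227208a281e79e7a08228228207a27a08208228207a271e8a28a081e8227a282081e79e7a08a28207a081c8228a07a082079e7a082481e82089e81e89e8a082282281c8a27a082081e8207a282279e8a082282289e82081e79e8a07a28208a09208228a08a089e82082279e7a089e82089c8208227a07a082089e8a082092282079e81e79e8a081e8227a282081e7a28a089e8248a08208227a08a08a282081e7a27a07a27208a082081e7a07a079e8208227a27a48a28208a082081e8a08a08a29208227a27a079e8207a08208228a08a07208a28a082081e82079e81e8a27a082282282079e8a482081e8207a282289e7a081e8227a282072279e8a079e8208a082081e8a07a082089e7a09208228207a281e89e7a082281e79e81c81e79e7a079e8207a082081e7a08a0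
def mR : ℕ := nat_lit 0x72082082082082082082481c82081c82082081c82482082082081c82082082082082081c82072082081c82072082082082092082082081c81c82082082082482082082082082081c82082072092082082082082082082081c72082082081c82082082072082072082092082082082072072082082082082082082081c92082092082081c82092082082082092082082082082082082071c82082092081c82082082082082082082091c82082092082482082082082092082081c82072082082082072082082082481c82082082081c82082082082082081c82082082482082082072082072082072082072082082082082082081c82482081c82082082082082082071c82082072082482082082092082082082082082081c81c82081c82082082082082482082082092082072082092082082082082082091c82082072081c82082082082072082081c82092082082082072082082092082082082082082082482482081c82082082082081c82082082092082072082072082082082092092082082082082082082081c92082082092072082082082082082082081c72082482482082082082482082082082082081c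
def mD : ℕ := nat_lit 0x8207a08208228a08a27208208248227a28208208a081c81e7a08a281c82082081e7a282089e81e8a27a081e82089e7a27a28a082089e8208a082081e8a07a282081c82082279e81c8207a082071e7a08a282082082072289e8208247a082082279c7a282082082081e79e8208208a09208227a07a28208208208228a27207a282289e7a08228208a28a28a28a082089e7a281e8a28a082282079e8a279e7a082089e8208a082481e7a08a282482082081e7a282079e8227a28a081e82089e8a28a27a082079e79e81e79e7a081e8207a28a279e8a082079e9207a082081e8a07a282092082081e8a28208248a082081e89c89e8208208208228a28208208a082081e7a079e72082082481e89e8208207a482081e7a079e8208207208227a28208208a082081e8a07a282082482082279e8247207a082081e8a07a282072082081e8a28208207a092081e8a089e82082082081e79e7207a281e7a27a082282089e89e7a28a08207a28a28227a27a082282079e7a289e8a082079e79e8228a27a081e82079e89e89e8a08208a28207a082091e7a08a282082082092289e8208208a48208228a08a282082072081e89e820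

/-- the first `n` images of `X` under the powers of `A / d` and the vectors of `L` add up to zero -/
noncomputable def sumOK (A d n : ℕ) : ℕ → List ℕ → Bool :=
  Nat.rec (motive := fun _ => ℕ → List ℕ → Bool)
    (fun _ L => allN (nat_lit 24) fun j => beqZ (L.map fun Y => ent Y j).sum 0)
    (fun _ ih X L => force (mulP A d X) fun Z => isImg A d X Z && ih Z (X :: L)) n

theorem sumOK_spec {g : Co0} {A d : ℕ} (hg : IsMat g A d) (n : ℕ) : ∀ (X : ℕ) (L : List ℕ)
    (v : leechLattice), (v : Vec) = vec X → sumOK A d n X L = true → ∀ p,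
      ((∑ i ∈ range n, g ^ i • v : leechLattice) : Vec) p + (L.map fun Y => ent Y (idx p)).sum = 0 := by
  induction n with
  | zero =>
    intro X L v _ h p
    have h' : (allN (nat_lit 24) fun j => beqZ (L.map fun Y => ent Y j).sum 0) = true := h
    simpa using beqZ_iff.1 (allN_iff.1 h' _ (idx_lt p))
  | succ n ih =>
    intro X L v hv h p
    have h' : (force (mulP A d X) fun Z => isImg A d X Z && sumOK A d n Z (X :: L)) = true := h
    rw [force_eq, Bool.and_eq_true] at h'
    have := ih _ _ (g • v) (hg.smul_vec h'.1 hv) h'.2 p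
    rw [List.map_cons, List.sum_cons, ← add_assoc] at this
    rw [sum_range_succ', pow_zero, one_smul, AddSubgroup.coe_add, Pi.add_apply, hv]
    simpa only [pow_succ, mul_smul, vec] using this

theorem neg_of {g : Co0} {A : ℕ} (hg : IsMat g A 8)
    (h : allN 24 (fun i => wordOK 8 (pE i) [A, A] fun Y => decide (vec Y = -vec (pE i))) = true) :
    g * g = negC := co0_ext_e8 fun i => by
  obtain ⟨Y, a1, a2⟩ := wordOK_spec (vec_pE i) (gs := [g, g]) (by simp [hg]) (allN_iff.1 h _ (idx_lt i))
  apply Subtype.ext
  rw [negC_smul, AddSubgroup.coe_neg, vec_pE, ← of_decide_eq_true a1, ← a2]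
  simp

theorem ok1 : coOK mB 8 = true ∧ coOK mR 8 = true ∧ coOK mD 8 = true ∧
    allN 24 (fun i => sumOK mY 8 13 (pE i) []) = true ∧
    allN 24 (fun i => wordOK 8 (pE i) [mB, mB] fun Y => decide (vec Y = -vec (pE i))) = true ∧
    allN 24 (fun i => wordOK 8 (pE i) [mD, mD] fun Y => decide (vec Y = -vec (pE i))) = true := by
  decide +kernel

theorem ok2 : relOK 8 [mR, mG] [mB, mR] = true ∧ relOK 8 [mR, mB] [mG, mB, mR] = true ∧
    relOK 8 [mR, mR, mR] [] = true ∧ relOK 8 [mY, mR] [mR, mY] = true ∧
    relOK 8 [mY, mD, mY] [mD] = true ∧ relOK 8 [mD, mG] [mG, mD] = true ∧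
    relOK 8 [mD, mR] [mR, mD] = true := by
  decide +kernel

end CoA

open CoA H97 H26.CoInv in
theorem co13 : ∃ x a b r d : Co0, x ^ 13 = 1 ∧
    (∀ v : leechLattice, ∑ i ∈ Finset.range 13, x ^ i • v = 0) ∧ a * a = negC ∧ b * b = negC ∧
    r * a * r⁻¹ = b ∧ r * b * r⁻¹ = a * b ∧ r ^ 3 = 1 ∧ x * a = a * x ∧ x * r = r * x ∧
    d * x * d⁻¹ = x⁻¹ ∧ d * a = a * d ∧ d * r = r * d ∧ d * d = negC := by
  obtain ⟨h1, h2, h3, h4, h5, -⟩ := thirteen_ok
  obtain ⟨k1, k2, k3, k4, k5, k6⟩ := ok1
  obtain ⟨l1, l2, l3, l4, l5, l6, l7⟩ := ok2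
  obtain ⟨a, ha⟩ := exists_isMat h1
  obtain ⟨x, hx⟩ := exists_isMat h2
  obtain ⟨b, hb⟩ := exists_isMat k1
  obtain ⟨r, hr⟩ := exists_isMat k2
  obtain ⟨d, hd⟩ := exists_isMat k3
  refine ⟨x, a, b, r, d, ?_, fun v => ?_, neg_of ha h5, neg_of hb k5, mul_inv_eq_of_eq_mul ?_,
    mul_inv_eq_of_eq_mul ?_, ?_, ?_, ?_, mul_inv_eq_of_eq_mul (eq_inv_mul_iff_mul_eq.2 ?_), ?_, ?_,
    neg_of hd k6⟩
  · rw [← List.prod_replicate]
    exact relOK_spec (gs := List.replicate 13 x) (ks := []) (by simp [hx]) .nil h4
  · have e : ∀ i p, ∑ k ∈ Finset.range 13, ((x ^ k • e8 i : leechLattice) : Vec) p = 0 := fun i p => by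
      simpa using sumOK_spec hx 13 _ [] (e8 i) (vec_pE i) (allN_iff.1 k4 _ (idx_lt i)) p
    refine Subtype.ext (funext fun p => ?_)
    have : 8 * ∑ k ∈ Finset.range 13, ((x ^ k • v : leechLattice) : Vec) p = 0 := by
      simp only [Finset.mul_sum, eight_mul_smul_apply]
      rw [Finset.sum_comm]
      simp only [← Finset.mul_sum, e, mul_zero, Finset.sum_const_zero]
    simpa using this
  · simpa using relOK_spec (gs := [r, a]) (ks := [b, r]) (by simp [*]) (by simp [*]) l1
  · simpa [mul_assoc] using relOK_spec (gs := [r, b]) (ks := [a, b, r]) (by simp [*]) (by simp [*]) l2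
  · simpa [pow_succ, mul_assoc] using relOK_spec (gs := [r, r, r]) (ks := []) (by simp [*]) .nil l3
  · simpa using relOK_spec (gs := [x, a]) (ks := [a, x]) (by simp [*]) (by simp [*]) h3
  · simpa using relOK_spec (gs := [x, r]) (ks := [r, x]) (by simp [*]) (by simp [*]) l4
  · simpa using relOK_spec (gs := [x, d, x]) (ks := [d]) (by simp [*]) (by simp [*]) l5
  · simpa using relOK_spec (gs := [d, a]) (ks := [a, d]) (by simp [*]) (by simp [*]) l6
  · simpa using relOK_spec (gs := [d, r]) (ks := [r, d]) (by simp [*]) (by simp [*]) l7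

end Cfsg.Agent.RV
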