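import Cfsg.Agent.H26.CoInv
import Cfsg.Agent.H26.CoInv2
import Cfsg.Agent.LAY.Co1

/-! The centraliser of an element of order thirteen of `Co0` has order at most 312. -/

set_option autoImplicit false

namespace Cfsg.Agent.RV

open Subgroup

open Cfsg.Agent.H14 Cfsg.Agent.H15

namespace CoB

open H97 H26.CoInv LAY.Co1 Polynomial Matrix

theorem key1 {n : Type*} [Fintype n] [DecidableEq n] (hn : Fintype.card n = 24) {U : Matrix n n ℚ}
    {r k : ℕ} (hr : r.Prime) (h13 : r ≠ 13) (h1 : U ^ (r ^ (k + 1) * 13) = 1)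
    (h2 : ∑ i ∈ Finset.range 13, (U ^ r ^ (k + 1)) ^ i = 0) (h3 : 2 ≤ (r ^ (k + 1)).totient) :
    U ^ (r ^ k * 13) = 1 ∨
      ((r ^ (k + 1)).totient = 2 ∧ aeval (U ^ 13) (cyclotomic (r ^ (k + 1)) ℚ) = 0) := by
  have := Fact.mk hr
  have hd : ¬ 13 ∣ r ^ (k + 1) := fun e =>
    h13 ((Nat.prime_dvd_prime_iff_eq (by norm_num) hr).1 (Nat.Prime.dvd_of_dvd_pow (by norm_num) e)).symm
  have a := cyclotomic_prime_pow_mul_X_pow_sub_one ℚ r k
  have c := cyclotomic_expand_eq_cyclotomic_mul (by norm_num : Nat.Prime 13) hd ℚ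
  have hq : 0 < r ^ (k + 1) := pow_pos hr.pos _
  generalize r ^ (k + 1) = q at *
  generalize r ^ k = q' at *
  have p1 : (X ^ q - 1) * (cyclotomic (q * 13) ℚ * (X ^ (q' * 13) - 1)) =
      (X ^ q' - 1) * (X ^ (q * 13) - 1) := by
    have b := congrArg (expand ℚ 13) a
    rw [map_mul, c] at b
    simp only [map_sub, map_pow, expand_X, map_one, ← pow_mul] at b
    rw [mul_comm 13, mul_comm 13] at b
    rw [← b, ← a]
    ring
  have p2 := congrArg (aeval U) p1
  rw [map_mul, map_mul _ (X ^ q' - 1)] at p2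
  generalize hf : aeval U (cyclotomic (q * 13) ℚ * (X ^ (q' * 13) - 1)) = f at p2
  simp only [map_sub, map_pow, aeval_X, map_one] at p2
  rw [h1, sub_self, mul_zero, sub_mul, one_mul, sub_eq_zero] at p2
  have p3 : ∀ i, (U ^ q) ^ i * f = f := fun i => by
    induction i with
    | zero => rw [pow_zero, one_mul]
    | succ i ih => rw [pow_succ, mul_assoc, p2, ih]
  have p4 := congrArg (· * f) h2
  simp only [Finset.sum_mul, p3, Finset.sum_const, Finset.card_range, zero_mul] at p4
  rw [← Nat.cast_smul_eq_nsmul ℚ] at p4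
  obtain rfl : f = 0 := (smul_eq_zero.1 p4).resolve_left (by norm_num)
  by_cases e : cyclotomic (q * 13) ℚ ∣ U.charpoly
  · have d : (cyclotomic (q * 13) ℚ).natDegree = q.totient * 12 := by
      rw [natDegree_cyclotomic, Nat.totient_mul ((Nat.Prime.coprime_iff_not_dvd (by norm_num)).2 hd).symm,
        Nat.totient_prime (p := 13) (by norm_num)]
    have d1 := natDegree_le_of_dvd e (charpoly_monic _).ne_zero
    have d2 : U.charpoly.natDegree = 24 := by rw [charpoly_natDegree_eq_dim, hn]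
    refine Or.inr ⟨by omega, ?_⟩
    rw [← expand_aeval, c, map_mul,
      ← eq_of_monic_of_dvd_of_natDegree_le (cyclotomic.monic _ _) (charpoly_monic _) e (by omega),
      aeval_self_charpoly, zero_mul]
  obtain ⟨a, b, e⟩ : IsCoprime (cyclotomic (q * 13) ℚ) U.charpoly :=
    (cyclotomic.irreducible_rat (by omega)).coprime_iff_not_dvd.2 e
  have p5 := congrArg (fun s => aeval U (s * (X ^ (q' * 13) - 1))) e
  simp only [add_mul, mul_assoc, map_add, map_mul _ a, map_mul _ b, hf, map_mul _ U.charpoly,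
    aeval_self_charpoly, zero_mul, mul_zero, add_zero, one_mul, map_sub, map_pow, aeval_X,
    map_one] at p5
  exact Or.inl (sub_eq_zero.1 p5.symm)

variable {x : Co0} (ox : orderOf x = 13)
include ox

theorem key2 {g : Co0} (hc : Commute g x) {r k : ℕ} (hr : r.Prime) (h13 : r ≠ 13)
    (h1 : g ^ r ^ (k + 1) = 1) (h3 : 2 ≤ (r ^ (k + 1)).totient) : g ^ r ^ k = 1 ∨
      ((r ^ (k + 1)).totient = 2 ∧ aeval (rho (g ^ 13)) (cyclotomic (r ^ (k + 1)) ℚ) = 0) := by
  have h0 : x ^ 13 = 1 := ox ▸ pow_orderOf_eq_one x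
  have co : (13 : ℕ).Coprime r := (Nat.coprime_primes (by norm_num) hr).2 (Ne.symm h13)
  have e : (g * x) ^ 13 = g ^ 13 := by rw [hc.mul_pow, h0, mul_one]
  refine (key1 card_pt (U := rho (g * x)) hr h13 ?_ ?_ h3).imp (fun h => ?_) fun h => ?_
  · rw [← map_pow, mul_comm _ 13, pow_mul, e, ← pow_mul, mul_comm 13, pow_mul, h1, one_pow, map_one]
  · rw [← map_pow, hc.mul_pow, h1, one_mul]
    exact sum_eq (by rw [Nat.Coprime.orderOf_pow (ox ▸ co.pow_right _), ox])
  · rw [← map_pow, mul_comm _ 13, pow_mul, e, ← pow_mul, mul_comm 13, pow_mul] at h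
    rw [pow_succ, pow_mul] at h1
    exact (pow_eq_one_iff_of_coprime co).1 ⟨rho_inj h, h1⟩
  · rwa [← map_pow, e] at h

theorem inv {t : Co0} (hc : Commute t x) (h2 : t * t = 1) : t = 1 ∨ t = negC := by
  have := finite_Co0
  have hk : ∀ k, prC k = 1 ↔ k ∈ center Co0 := fun k => QuotientGroup.eq_one_iff k
  refine mem_center_iff'.1 ((hk t).1 (by_contra fun n => ?_))
  have o : orderOf (prC x) = 13 := by
    have := Fact.mk (show Nat.Prime 13 by norm_num)
    refine orderOf_eq_prime (by rw [← map_pow, ← ox, pow_orderOf_eq_one, map_one]) fun e => ?_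
    have := Subgroup.orderOf_dvd_natCard _ ((QuotientGroup.eq_one_iff x).1 e)
    rw [ox, card_center] at this
    omega
  have key : ∀ s, IsConj (prC t) s → 13 ∣ Nat.card (centralizer ({s} : Set Spor.Co1)) := fun s hs => by
    obtain ⟨c, rfl⟩ := isConj_iff.1 hs
    rw [← o, ← (MulAut.conj c).orderOf_eq]
    exact Subgroup.orderOf_dvd_natCard _ (mem_centralizer_singleton_iff.2
      ((hc.symm.map prC).map (MulAut.conj c)))
  obtain ⟨c, hc, h3⟩ := isConj_signC h2
  have h3 := prC.map_isConj h3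
  obtain ⟨o, ho, h8⟩ := exists_octad
  obtain ⟨d, hd, h12⟩ := exists_dodecad
  obtain ⟨σ, h4 | h4⟩ := sign_cases hk ho h8 hd h12 hc fun e => by
    rw [e, isConj_one_left] at h3
    exact n h3
  · obtain ⟨τ, -, h5⟩ := exists_conj_tt ho h8
    have := key _ ((isConj_iff.2 ⟨_, h5⟩).trans (h3.trans (isConj_iff.2 ⟨_, h4⟩)).symm).symm
    rw [card_cen_co1] at this
    omega
  · have h5 : centralizer {prC (signC d hd)} ≤ monoN.map prC := fun g hg => by
      obtain ⟨g, rfl⟩ : ∃ k, prC k = g := QuotientGroup.mk'_surjective _ g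
      refine mem_map_of_mem _ ?_
      rcases map_eq hk (u := signC d hd * g) (v := g * signC d hd)
        (mem_centralizer_singleton_iff.1 hg).symm with a | a
      · exact mem_monoN_of_conj hd h12 hd h12 a.symm
      · rw [mul_assoc, ← signC_compl] at a
        exact mem_monoN_of_conj hd h12 hd.compl (by rw [Finset.card_compl, h12, card_pt]) a.symm
    have := ((key _ (h3.trans (isConj_iff.2 ⟨_, h4⟩))).trans (card_dvd_of_le h5)).trans
      (card_map_dvd _ _)
    rw [card_monoN'] at this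
    omega

omit ox in
theorem sub {G : Type*} [Group G] [Finite G] {C : Subgroup G} {p n : ℕ} (hp : p.Prime)
    (h : p ^ n ∣ Nat.card C) : ∃ P ≤ C, Nat.card P = p ^ n ∧ (∀ g ∈ P, g ^ p ^ n = 1) ∧
      ∀ l : List G, l.length < p ^ n → ∃ g ∈ P, g ∉ l := by
  classical
  have := Fact.mk hp
  obtain ⟨K, hK⟩ := Sylow.exists_subgroup_card_pow_prime p h
  have e : Nat.card (K.map C.subtype) = p ^ n := by
    rw [card_map_of_injective C.subtype_injective, hK]
  refine ⟨K.map C.subtype, map_subtype_le _, e, fun g hg => ?_, fun l hl => by_contra fun c => ?_⟩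
  · exact congrArg Subtype.val (e ▸ pow_card_eq_one' (x := (⟨g, hg⟩ : K.map C.subtype)))
  · push Not at c
    have := Set.ncard_le_ncard (s := (K.map C.subtype : Set G)) (t := (l.toFinset : Set G))
      (fun g hg => by simpa using c g hg)
    rw [Set.ncard_coe_finset, ← Nat.card_coe_set_eq] at this
    exact absurd ((e.ge.trans this).trans (List.toFinset_card_le l)) hl.not_ge

theorem no_prime {r : ℕ} (hr : r.Prime) (h5 : 5 ≤ r) (h13 : r ≠ 13) :
    ¬ r ^ (0 + 1) ∣ Nat.card (centralizer ({x} : Set Co0)) := fun h => by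
  have := finite_Co0
  obtain ⟨P, h1, -, h2, h3⟩ := sub hr h
  have t : (r ^ (0 + 1)).totient = r - 1 := by rw [zero_add, pow_one, Nat.totient_prime hr]
  obtain ⟨g, hg, n⟩ := h3 [1] (by simpa using hr.one_lt)
  rcases key2 ox (mem_centralizer_singleton_iff.1 (h1 hg)) hr h13 (h2 g hg) (by omega) with e | e
  · simp_all
  · omega

theorem no_nine : ¬ 3 ^ (1 + 1) ∣ Nat.card (centralizer ({x} : Set Co0)) := fun h => by
  have := finite_Co0
  have := Fact.mk Nat.prime_three
  obtain ⟨P, h1, hP, h2, h3⟩ := sub Nat.prime_three h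
  have c3 : ∀ g ∈ P, g ^ 3 = 1 := fun g hg =>
    (key2 ox (mem_centralizer_singleton_iff.1 (h1 hg)) (k := 1) Nat.prime_three (by decide) (h2 g hg)
      (by decide)).resolve_right fun e => absurd e.1 (by decide)
  have q : ∀ g ∈ P, g ≠ 1 → rho (g * g) + rho g + 1 = 0 := fun g hg n => by
    have := ((key2 ox (mem_centralizer_singleton_iff.1 (h1 hg)) (k := 0) Nat.prime_three (by decide)
      (c3 g hg) (by decide)).resolve_left n).2
    rw [show 13 = 3 * 4 + 1 from rfl, pow_succ, pow_mul, c3 g hg, one_pow, one_mul, zero_add, pow_one,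
      cyclotomic_three] at this
    simpa [pow_two] using this
  obtain ⟨a, ha, na⟩ := h3 [1] (by decide)
  obtain ⟨b, hb, nb⟩ := h3 [1, a⁻¹, (a * a)⁻¹] (by simp)
  simp only [List.mem_cons, List.not_mem_nil, or_false, not_or] at na nb
  have cm : Commute a b := congrArg Subtype.val
    ((IsPGroup.isMulCommutative_of_card_eq_prime_sq hP).is_comm.comm (⟨a, ha⟩ : P) ⟨b, hb⟩)
  have e1 := q a ha na
  have e2 := q b hb nb.1
  have e3 := q _ (mul_mem ha hb) fun e => nb.2.1 (eq_inv_of_mul_eq_one_right e)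
  have e4 := q _ (mul_mem (mul_mem ha ha) hb) fun e => nb.2.2 (eq_inv_of_mul_eq_one_right e)
  have f3 : a * b * (a * b) = a * a * (b * b) := by rw [← pow_two, cm.mul_pow, pow_two, pow_two]
  have f4 : a * a * b * (a * a * b) = a * (b * b) := by
    rw [← pow_two, (cm.mul_left cm).mul_pow, ← pow_two a, ← pow_mul, show 2 * 2 = 3 + 1 from rfl,
      pow_succ, c3 a ha, one_mul, pow_two]
  rw [f3] at e3
  rw [f4] at e4
  simp only [map_mul] at e1 e2 e3 e4
  have e5 : (3 : ℚ) • (1 : Matrix GolayPt GolayPt ℚ) = 0 := by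
    have e6 := congrArg (· * (rho b * rho b + rho b + 1)) e1
    simp only [add_mul, mul_add, one_mul, mul_one, zero_mul] at e6
    rw [show (3 : ℚ) = 1 + 1 + 1 by norm_num, add_smul, add_smul, one_smul]
    linear_combination (norm := abel1) e1 + e2 + e3 + e4 - e6
  simpa using congrFun (congrFun e5 none) none

theorem no_sixteen : ¬ 2 ^ (3 + 1) ∣ Nat.card (centralizer ({x} : Set Co0)) := fun h => by
  have := finite_Co0
  obtain ⟨P, h1, -, h2, h3⟩ := sub Nat.prime_two h
  have q : ∀ g ∈ P, g ≠ 1 → g ≠ negC → g * g = negC := fun g hg n1 n2 => by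
    have c : Commute g x := mem_centralizer_singleton_iff.1 (h1 hg)
    have a := (key2 ox c (k := 3) Nat.prime_two (by decide) (h2 g hg) (by decide)).resolve_right
      fun e => absurd e.1 (by decide)
    have b := (key2 ox c (k := 2) Nat.prime_two (by decide) a (by decide)).resolve_right
      fun e => absurd e.1 (by decide)
    refine (inv ox (c.mul_left c) (by rw [← b]; simp [pow_succ, mul_assoc])).resolve_left fun e => ?_
    exact (inv ox c e).elim n1 n2
  have anti : ∀ a ∈ P, ∀ b ∈ P, a * a = negC → b * b = negC → b ≠ a⁻¹ → b ≠ a⁻¹ * negC →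
      a * b * (a * b) = negC ∧ a * b = negC * (b * a) := fun a ha b hb e1 e2 n1 n2 => by
    have e3 := q _ (mul_mem ha hb) (fun e => n1 (eq_inv_of_mul_eq_one_right e))
      fun e => n2 (eq_inv_mul_of_mul_eq e)
    refine ⟨e3, ?_⟩
    have e4 : b * a * b = a := mul_left_cancel (a := a) (by rw [e1, ← e3]; group)
    calc a * b = b * a * (b * b) := by rw [← mul_assoc, e4]
      _ = _ := by rw [e2, negC_comm]
  obtain ⟨i, hi, ni⟩ := h3 [1, negC] (by decide)
  obtain ⟨j, hj, nj⟩ := h3 [1, negC, i⁻¹, i⁻¹ * negC] (by simp)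
  obtain ⟨k, hk, nk⟩ := h3 [1, negC, i⁻¹, i⁻¹ * negC, j⁻¹, j⁻¹ * negC, (i * j)⁻¹, (i * j)⁻¹ * negC]
    (by simp)
  simp only [List.mem_cons, List.not_mem_nil, or_false, not_or] at ni nj nk
  have ii := q i hi ni.1 ni.2
  have jj := q j hj nj.1 nj.2.1
  have kk := q k hk nk.1 nk.2.1
  obtain ⟨-, -, k1, k2, k3, k4, k5, k6⟩ := nk
  have e1 := (anti i hi k hk ii kk k1 k2).2
  have e2 := (anti j hj k hk jj kk k3 k4).2
  have e3 := (anti _ (mul_mem hi hj) k hk (anti i hi j hj ii jj nj.2.2.1 nj.2.2.2).1 kk k5 k6).2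
  rw [mul_assoc, e2, ← mul_assoc, negC_comm, mul_assoc, mul_right_inj, ← mul_assoc, e1, mul_assoc,
    mul_assoc, mul_eq_right] at e3
  exact negC_ne_one e3

omit ox in
theorem cut {p a b n m : ℕ} (hp : p.Prime) (h : n ∣ p ^ a * m) (h' : ¬ p ^ (b + 1) ∣ n) :
    n ∣ m * p ^ b := by
  obtain ⟨d, e, h1, h2, rfl⟩ := exists_dvd_and_dvd_of_dvd_mul h
  obtain ⟨i, -, rfl⟩ := (Nat.dvd_prime_pow hp).1 h1
  rw [mul_comm]
  refine mul_dvd_mul h2 (pow_dvd_pow _ (by_contra fun c => h' ?_))
  exact (pow_dvd_pow _ (by omega)).mul_right _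

theorem card_dvd : Nat.card (centralizer ({x} : Set Co0)) ∣ 312 := by
  have h : Nat.card (centralizer ({x} : Set Co0)) ∣
      2 ^ 22 * (3 ^ 9 * (5 ^ 4 * (7 ^ 2 * (11 ^ 1 * (23 ^ 1 * 13))))) := by
    have := card_subgroup_dvd_card (centralizer ({x} : Set Co0))
    rwa [card_Co0] at this
  have h := cut Nat.prime_two h (no_sixteen ox)
  rw [mul_assoc] at h
  have h := cut Nat.prime_three h (no_nine ox)
  rw [mul_assoc, mul_assoc] at h
  have h := cut (by norm_num) h (no_prime ox (by norm_num) (by norm_num) (by norm_num))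
  rw [pow_zero, mul_one, mul_assoc] at h
  have h := cut (by norm_num) h (no_prime ox (by norm_num) (by norm_num) (by norm_num))
  rw [pow_zero, mul_one, mul_assoc] at h
  have h := cut (by norm_num) h (no_prime ox (by norm_num) (by norm_num) (by norm_num))
  rw [pow_zero, mul_one, mul_assoc] at h
  exact cut (by norm_num) h (no_prime ox (by norm_num) (by norm_num) (by norm_num))

end CoB

theorem card_cent13 {x : Co0} (h : x ^ 13 = 1)
    (hs : ∀ v : leechLattice, ∑ i ∈ Finset.range 13, x ^ i • v = 0) :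
    Nat.card (centralizer ({x} : Set Co0)) ≤ 312 := by
  have := Fact.mk (show Nat.Prime 13 by norm_num)
  refine Nat.le_of_dvd (by norm_num) (CoB.card_dvd (orderOf_eq_prime h ?_))
  rintro rfl
  have := congrArg (fun v : leechLattice => (v : Vec) none) (hs (e8 none))
  simp [e8_val] at this

end Cfsg.Agent.RV
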