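import Cfsg.Agent.RV.Defs
import Cfsg.Agent.TH.Top

set_option autoImplicit false
set_option maxRecDepth 100000
set_option exponentiation.threshold 400000

namespace Cfsg.Agent.RV

open Subgroup

namespace Th

open TH H14 H58 H17 H17.ThP H17.ThF H17.ThU H17.ThQ H17.ThZ Equiv

def wx : List ℕ := [4, 7, 10, 4, 10]
def wa : List ℕ := [6, 8, 10, 4, 7, 10, 6, 6, 10, 4, 10, 4]
def wb : List ℕ := [5, 9, 10, 12, 4, 11, 7, 5, 4, 7, 5, 11]
def wr : List ℕ := [7, 5, 4, 8, 7, 11, 4, 6, 6, 12, 7, 10]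
def wd : List ℕ := [3, 4, 6, 8, 11, 4, 3, 12, 6]

theorem fq (q : D1) (h1 : θ q = 1) (h2 : q * dw wx = dw wx * q) : q = 1 ∨ q = dw [1] := by
  have : allQ (fun A => bimp (cmW wx A) (inW [[], [1]] A)) = true := by decide +kernel
  obtain ⟨A, r, k⟩ := allQ_spec this q h1
  simpa [dw_nil] using r.inW (bimp_iff.1 k (r.cmW h2))

theorem card_cent : Nat.card (centralizer {wv m9 wx}) = 120 := by
  have : Fact (Nat.Prime 5) := ⟨Nat.prime_five⟩
  have h1 := Perm.cycleType_of_pow_prime_eq_one (σ := wv m9 wx) (p := 5) (by decide +kernel)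
  have h2 := (wv m9 wx).sum_cycleType
  rw [show (wv m9 wx).support.card = 5 by decide +kernel, h1, Multiset.sum_replicate, smul_eq_mul] at h2
  rw [show (wv m9 wx).cycleType.card = 1 by omega] at h1
  rw [Perm.nat_card_centralizer, h1]
  decide

theorem card_K : Nat.card (centralizer ({dw wx} : Set D1)) ≤ 120 := by
  have := cle1.1
  set K := centralizer ({dw wx} : Set D1) with hK
  let f : K →* Perm (Fin 9) := f9.comp K.subtype
  have e : f9 (dw wx) = wv m9 wx := θ_dw wx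
  have h1 : Nat.card f.ker ≤ 2 := by
    have : Nat.card f.ker ≤ ({1, dw [1]} : Set D1).ncard := by
      rw [← Nat.card_coe_set_eq]
      refine Nat.card_le_card_of_injective (fun k => ⟨k.1.1, ?_⟩) fun a b h =>
        Subtype.ext (Subtype.ext (Subtype.mk.inj h))
      exact fq _ (Subtype.ext k.2) (mem_centralizer_singleton_iff.1 k.1.2)
    exact this.trans (Set.ncard_insert_le _ _ |>.trans (by simp))
  have h2 : f.range ≤ centralizer {wv m9 wx} := by
    rintro _ ⟨k, rfl⟩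
    rw [mem_centralizer_singleton_iff, ← e]
    show f9 k * _ = _ * f9 k
    rw [← map_mul, ← map_mul, mem_centralizer_singleton_iff.1 k.2]
  have h3 : Nat.card f.range ≠ 120 := fun h => by
    have := eq_of_le_of_card_ge h2 (card_cent.trans h.symm).le
    obtain ⟨k, hk⟩ := this.ge (show swap 0 1 ∈ _ from mem_centralizer_singleton_iff.2 (by decide +kernel))
    have s : Perm.sign (f k) = 1 := Perm.mem_alternatingGroup.1 (θ k).2
    rw [hk, Perm.sign_swap (by decide)] at s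
    exact absurd s (by decide)
  obtain ⟨m, hm⟩ := card_cent ▸ card_dvd_of_le h2
  have h4 : Nat.card f.range ≤ 60 := by
    rcases m with _ | _ | m
    · omega
    · omega
    · nlinarith
  rw [← f.ker.card_mul_index, index_ker]
  exact Nat.mul_le_mul h1 h4

end Th

open Th TH H17 H17.ThU H17.ThQ in
theorem lh_th : ∃ (G : Type) (_ : Group G) (_ : Finite G) (t x a b r d : G), LH 5 t x a b r d := by
  have : Finite Spor.Th := card_le.1
  have M := mu_model
  have mul : ∀ v w u : List ℕ, dw (v ++ w) = dw u → ψ1 (dw v) * ψ1 (dw w) = ψ1 (dw u) := fun v w u h => by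
    rw [← map_mul, ← dw_append, h]
  have cm : ∀ v w u : List ℕ, dw (v ++ w) = dw (u ++ v) →
      ψ1 (dw v) * ψ1 (dw w) = ψ1 (dw u) * ψ1 (dw v) := fun v w u h => by
    rw [← map_mul, ← map_mul, ← dw_append, ← dw_append, h]
  have x5 : ψ1 (dw wx) ^ 5 = 1 := by
    rw [← map_pow]
    simp only [pow_succ, pow_zero, one_mul, ← dw_append]
    rw [dw_eq _ [], dw_nil, map_one]
  have x1 : ψ1 (dw wx) ≠ 1 := fun h =>
    absurd (M.inj (h.trans (map_one _).symm)) (dw_ne wx [])
  have hc : centralizer {ψ1 (dw [1])} = ψ1.range := M.range.symm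
  refine ⟨Spor.Th, inferInstance, this, ψ1 (dw [1]), ψ1 (dw wx), ψ1 (dw wa), ψ1 (dw wb), ψ1 (dw wr), ψ1 (dw wd),
    ?_, ?_, ?_, M.lx.ne, M.lx.sq, x5, x1, mul _ _ _ (dw_eq _ _), mul _ _ _ (dw_eq _ _),
    mul_inv_eq_of_eq_mul (cm _ _ _ (dw_eq _ _)), mul_inv_eq_of_eq_mul ?_, ?_, cm _ _ _ (dw_eq _ _),
    cm _ _ _ (dw_eq _ _), cm _ _ _ (dw_eq _ _), mul_inv_eq_of_eq_mul ?_, cm _ _ _ (dw_eq _ _),
    cm _ _ _ (dw_eq _ _), mul _ _ _ (dw_eq _ _), ?_, fun j j2 hj => ?_⟩
  · rw [ThE.card_eq]; norm_num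
  · rw [ThE.card_eq]; norm_num
  · rw [hc, ← Nat.card_congr (MonoidHom.ofInjective M.inj).toEquiv, card1']; norm_num
  · rw [mul wa wb _ rfl]; exact cm _ _ _ (dw_eq _ _)
  · rw [← map_pow]
    simp only [pow_succ, pow_zero, one_mul, ← dw_append]
    rw [dw_eq _ [], dw_nil, map_one]
  · rw [eq_inv_mul_iff_mul_eq, mul wd wx _ rfl]; exact mul _ _ _ (dw_eq _ _)
  · have := cle1.1
    refine le_trans ?_ card_K
    rw [← card_map_of_injective M.inj]
    refine card_le_of_le fun g hg => ?_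
    obtain ⟨k, rfl⟩ := hc.le (mem_centralizer_singleton_iff.2 (hg _ (by simp)).symm)
    refine ⟨k, mem_centralizer_singleton_iff.2 (M.inj ?_), rfl⟩
    rw [map_mul, map_mul]; exact (hg _ (by simp)).symm
  · refine M.iso.2 _ _ (H8.orderOf_two_of j2 ?_) (H8.orderOf_two_of M.lx.sq M.lx.ne)
    rintro rfl
    apply x1
    have e : ψ1 (dw wx) * ψ1 (dw wx) = 1 := by
      rw [one_mul, inv_one, mul_one] at hj; exact mul_eq_one_iff_eq_inv.2 hj
    rw [show 5 = 2 * 2 + 1 from rfl, pow_succ, pow_mul, pow_two (ψ1 (dw wx)), e, one_pow, one_mul] at x5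
    exact x5

end Cfsg.Agent.RV
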