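import Cfsg.Agent.RV.SpE8
import Cfsg.Agent.RV.SpS
import Cfsg.Agent.RV.SpAb
import Cfsg.Agent.RV.SpTh
import Cfsg.Agent.RV.SpMon

/-! Groups with an extraspecial Sylow subgroup of order `5 ^ 3` or `13 ^ 3` and many fused lines. -/

set_option autoImplicit false

namespace Cfsg.Agent.RV

theorem Dat.exists_big {G : Type*} [Group G] [Finite G] {p : ℕ} {z x n w a h : G}
    (D : Dat p z x n w a h) : ∃ T : Sylow p G, Big p T := by
  obtain ⟨S, H⟩ := D.exists_S D.q8case
  exact ⟨S, D.big D.q8case H (D.not_comm D.q8case H)⟩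

theorem exists_big {p : ℕ} (hp : p = 5 ∨ p = 13) :
    ∃ (G : Type) (_ : Group G) (_ : Finite G) (T : Sylow p G), Big p T := by
  rcases hp with rfl | rfl
  · obtain ⟨G, _, _, z, x, n, w, a, h, D⟩ := dat_Th
    exact ⟨G, inferInstance, inferInstance, D.exists_big⟩
  · obtain ⟨G, _, _, z, x, n, w, a, h, D⟩ := dat_M
    exact ⟨G, inferInstance, inferInstance, D.exists_big⟩

end Cfsg.Agent.RV
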